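import Mathlib
import Groth.Prelude.Def_ResolveSeq
import Groth.Agent.S11555
import Groth.Agent.PurBirLib.Apps
import Groth.Agent.LocFFLib.Norm
import Groth.Agent.ModifLib.Basic
import Groth.Agent.ModifLib.Join
import Groth.Agent.RGFlatLib.Setup
import Groth.Agent.EffCartLib.Basic
import Groth.Agent.BlowUpLib.Props
import Groth.Agent.DimFibreLib.Main
import Groth.Agent.DimIneqLib.Dim
import Groth.Agent.DivDescLib.Local
import Groth.Agent.S8859

/-! Sequences of normalized blowing ups. -/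

set_option autoImplicit false
set_option linter.style.haveILetI false
set_option backward.isDefEq.respectTransparency false
set_option backward.isDefEq.respectTransparency.types false
universe u

open CategoryTheory CategoryTheory.Limits AlgebraicGeometry TopologicalSpace

namespace NormBlowLib

theorem isIso_of_restrict_top {X Y : Scheme.{u}} (f : X ⟶ Y) (h : IsIso (f ∣_ (⊤ : Y.Opens))) : IsIso f :=
  (IsZariskiLocalAtTarget.iff_of_iSup_eq_top (P := MorphismProperty.isomorphisms Scheme.{u}) (f := f)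
    (fun _ : PUnit.{u+1} => (⊤ : Y.Opens)) iSup_const).2 fun _ => h

/-- Every modification has a finite normalization. -/
def FinNorm (X : Scheme.{u}) : Prop :=
  ∀ (B : Scheme.{u}) (p : B ⟶ X) [IsIntegral B] [QuasiCompact (B.fromSpecStalk (genericPoint B))]
    [QuasiSeparated (B.fromSpecStalk (genericPoint B))], IsProper p →
    (∃ U : X.Opens, (U : Set X).Nonempty ∧ IsIso (p ∣_ U)) → IsFinite (Curv2.normalizationι B)

theorem isNormalScheme_open {X : Scheme.{u}} (hX : Pi1.IsNormalScheme X) (U : X.Opens) :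
    Pi1.IsNormalScheme (U : Scheme.{u}) := fun x => by
  let e := (asIso (U.ι.stalkMap x)).commRingCatIsoToRingEquiv
  obtain ⟨h1, h2⟩ := hX (U.ι x)
  haveI := h1
  haveI := h2
  exact ⟨e.symm.injective.isDomain e.symm.toRingHom, IsIntegrallyClosed.of_equiv e⟩

theorem isNormalScheme_of_isIso {X Y : Scheme.{u}} (f : X ⟶ Y) [IsOpenImmersion f] (hY : Pi1.IsNormalScheme Y) :
    Pi1.IsNormalScheme X := fun x => by
  let e := (asIso (f.stalkMap x)).commRingCatIsoToRingEquiv
  obtain ⟨h1, h2⟩ := hY (f x)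
  haveI := h1
  haveI := h2
  exact ⟨e.symm.injective.isDomain e.symm.toRingHom, IsIntegrallyClosed.of_equiv e⟩

/-- The normalization is an isomorphism over a normal open. -/
theorem isIso_normalizationι_of_normal (B : Scheme.{u}) [IsIntegral B]
    [QuasiCompact (B.fromSpecStalk (genericPoint B))] [QuasiSeparated (B.fromSpecStalk (genericPoint B))]
    (U : B.Opens) (hne : (U : Set B).Nonempty) (hU : Pi1.IsNormalScheme (U : Scheme.{u})) :
    IsIso (Curv2.normalizationι B ∣_ U) := by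
  let ν := Curv2.normalizationι B
  obtain ⟨hgen, hst⟩ := LocFFLib.normalization_bir B
  have hηU : genericPoint B ∈ U := ((genericPoint_spec B).mem_open_set_iff U.2).2 (by simpa using hne)
  have hη : genericPoint (Curv2.normalization B) ∈ ν ⁻¹ᵁ U := show ν _ ∈ U by rw [hgen]; exact hηU
  haveI : Nonempty U := hne.to_subtype
  haveI : Nonempty (ν ⁻¹ᵁ U) := ⟨⟨_, hη⟩⟩
  haveI : IsIntegral (U : Scheme.{u}) := isIntegral_of_isOpenImmersion U.ι
  haveI : IsIntegral (ν ⁻¹ᵁ U : Scheme.{u}) := isIntegral_of_isOpenImmersion (ν ⁻¹ᵁ U).ι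
  haveI : IsIntegralHom ν := inferInstance
  haveI : IsIntegralHom (ν ∣_ U) :=
    MorphismProperty.of_isPullback (isPullback_morphismRestrict ν U).flip (inferInstanceAs (IsIntegralHom ν))
  refine PurBirLib.isIso_of_isIntegralHom (ν ∣_ U) ?_ fun y => (hU y).2
  have e : genericPoint (ν ⁻¹ᵁ U : Scheme.{u}) = ⟨genericPoint (Curv2.normalization B), hη⟩ :=
    Subtype.ext (genericPoint_eq_of_isOpenImmersion (ν ⁻¹ᵁ U).ι)
  refine ⟨?_, ?_⟩
  · rw [e]
    exact Subtype.ext (((morphismRestrict_base_coe ν U _).trans hgen).trans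
      (genericPoint_eq_of_isOpenImmersion U.ι).symm)
  · rw [e]
    exact ((MorphismProperty.isomorphisms CommRingCat.{u}).arrow_mk_iso_iff
      (morphismRestrictStalkMap ν U ⟨_, hη⟩)).2 hst

/-- A normal scheme of dimension at most one maps into every modification of its target. -/
theorem exists_lift {X' X : Scheme.{u}} (π : X' ⟶ X) [IsProper π] (U : X.Opens) [IsIso (π ∣_ U)]
    {S : Scheme.{u}} [IsIntegral S] [IsLocallyNoetherian S] (hS : Pi1.IsNormalScheme S)
    (hdim : ∀ s : S, ringKrullDim (S.presheaf.stalk s) ≤ 1) (σ : S ⟶ X) (hσ : σ (genericPoint S) ∈ U) :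
    ∃ τ : S ⟶ X', τ ≫ π = σ := by
  let D := σ ⁻¹ᵁ U
  haveI : Nonempty D := ⟨⟨_, hσ⟩⟩
  haveI : IsIso (pullback.fst σ π ∣_ D) :=
    RGFlatLib.isIso_restrict_of_isPullback (IsPullback.of_hasPullback σ π) (inferInstanceAs (IsIso (π ∣_ U)))
  obtain ⟨W, c, hc, hWi, hWiso⟩ := ModifLib.exists_integral_closure (pullback.fst σ π) D
  haveI := hc; haveI := hWi; haveI := hWiso
  let p := c ≫ pullback.fst σ π
  haveI : IsProper p := inferInstanceAs (IsProper (c ≫ pullback.fst σ π))
  have hD : (D : Set S).Nonempty := ⟨_, hσ⟩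
  haveI : IsIso (p.stalkMap (genericPoint W)) := ModifLib.isIso_stalkMap_genericPoint p hD
  obtain ⟨V, hV, -, h2⟩ := Groth.Agent.S11555.result p hS (ModifLib.map_genericPoint p hD)
    (ConcreteCategory.bijective_of_isIso (p.stalkMap (genericPoint W)))
  have hVtop : V = ⊤ := top_le_iff.1 fun s _ => by
    by_contra hs
    exact absurd ((h2 s hs).trans (hdim s)) (by norm_num)
  subst hVtop
  haveI : IsIso p := isIso_of_restrict_top p hV
  refine ⟨inv p ≫ c ≫ pullback.snd σ π, ?_⟩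
  rw [Category.assoc, Category.assoc, ← pullback.condition, ← Category.assoc c, IsIso.inv_hom_id_assoc]

/-- Lifts are unique. -/
theorem lift_unique {X' X : Scheme.{u}} (π : X' ⟶ X) [IsSeparated π] (U : X.Opens) [IsIso (π ∣_ U)]
    {S : Scheme.{u}} [IsIntegral S] (τ₁ τ₂ : S ⟶ X') (h : τ₁ ≫ π = τ₂ ≫ π) (hσ : (τ₁ ≫ π) (genericPoint S) ∈ U) :
    τ₁ = τ₂ := by
  let D := (τ₁ ≫ π) ⁻¹ᵁ U
  haveI : Nonempty D := ⟨⟨_, hσ⟩⟩
  haveI : IsDominant D.ι := ⟨by
    rw [DenseRange, Scheme.Opens.range_ι]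
    exact D.2.dense ⟨_, hσ⟩⟩
  refine ext_of_isDominant_of_isSeparated π h D.ι ?_
  have h1 : Set.range (D.ι ≫ τ₁) ⊆ Set.range (π ⁻¹ᵁ U).ι := by
    rw [Scheme.Opens.range_ι]
    rintro _ ⟨d, rfl⟩
    exact d.2
  have h2 : Set.range (D.ι ≫ τ₂) ⊆ Set.range (π ⁻¹ᵁ U).ι := by
    rw [Scheme.Opens.range_ι]
    rintro _ ⟨d, rfl⟩
    show (τ₂ ≫ π) d.1 ∈ U
    rw [← h]
    exact d.2
  rw [← IsOpenImmersion.lift_fac (π ⁻¹ᵁ U).ι (D.ι ≫ τ₁) h1, ← IsOpenImmersion.lift_fac (π ⁻¹ᵁ U).ι (D.ι ≫ τ₂) h2]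
  congr 1
  rw [← cancel_mono (π ∣_ U), ← cancel_mono U.ι]
  simp only [Category.assoc, morphismRestrict_ι]
  rw [IsOpenImmersion.lift_fac_assoc, IsOpenImmersion.lift_fac_assoc, Category.assoc, Category.assoc, h]

/-- A stage of a sequence of normalized blowing ups over `X`, unchanged over `V`. -/
structure IsSt {X X' : Scheme.{u}} (V : X.Opens) (g : X' ⟶ X) : Prop where
  seq : ∀ {W : Scheme.{u}} (r : X ⟶ W), Resolve.IsNormPtBlowupSeq r → Resolve.IsNormPtBlowupSeq (g ≫ r)
  integral : IsIntegral X'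
  normal : Pi1.IsNormalScheme X'
  proper : IsProper g
  iso : IsIso (g ∣_ V)

variable {X : Scheme.{u}} [IsIntegral X] [IsNoetherian X] {V : X.Opens}

theorem isSt_id (hn : Pi1.IsNormalScheme X) : IsSt V (𝟙 X) :=
  ⟨fun r hr => by rwa [Category.id_comp], inferInstance, hn, inferInstance, inferInstance⟩

omit [IsIntegral X] in
theorem IsSt.noetherian {X' : Scheme.{u}} {g : X' ⟶ X} (hg : IsSt V g) : AlgebraicGeometry.IsNoetherian X' :=
  haveI := hg.proper
  { toIsLocallyNoetherian := LocallyOfFiniteType.isLocallyNoetherian g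
    toCompactSpace := QuasiCompact.compactSpace_of_compactSpace g }

theorem IsSt.dim_le {X' : Scheme.{u}} {g : X' ⟶ X} (hg : IsSt V g) (hV : (V : Set X).Nonempty)
    (hdim : topologicalKrullDim X ≤ 2) : topologicalKrullDim X' ≤ 2 := by
  haveI := hg.proper; haveI := hg.integral; haveI := hg.iso
  exact ModifLib.dim_source_le g hV 2 fun s => (DimIneqLib.stalk_dim_le_dim s).trans hdim

omit [IsIntegral X] [AlgebraicGeometry.IsNoetherian X] in
theorem IsSt.contractionSeq {X' : Scheme.{u}} {g : X' ⟶ X} (hg : IsSt V g) : Resolve.IsNormPtBlowupSeq g := by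
  simpa using hg.seq (𝟙 X) (Resolve.IsNormPtBlowupSeq.iso (Iso.refl X))

/-- A normalized blowing up at a closed point over the bad locus. -/
theorem exists_blow (hfin : FinNorm X) (hV : (V : Set X).Nonempty) {X' : Scheme.{u}} {g : X' ⟶ X} (hg : IsSt V g)
    (x : X') (hx : IsClosed ({x} : Set X')) (hgx : g x ∉ V) :
    ∃ (X'' : Scheme.{u}) (π : X'' ⟶ X'), IsSt V (π ≫ g) ∧ IsProper π ∧
      IsIso (π ∣_ (⟨({x} : Set X')ᶜ, hx.isOpen_compl⟩ : X'.Opens)) ∧
      ∃ C : X''.IdealSheafData, C = (Scheme.IdealSheafData.vanishingIdeal ⟨{x}, hx⟩).comap π ∧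
        ∀ z : X'', π z = x → ∃ p, IntMult.stalkIdeal C z = Ideal.span {p} := by
  haveI := hg.proper; haveI := hg.integral; haveI := hg.iso; haveI := hg.noetherian
  let 𝓙 := Scheme.IdealSheafData.vanishingIdeal (⟨{x}, hx⟩ : Closeds X')
  obtain ⟨B, b, hb⟩ := Groth.Agent.S8859.result X' 𝓙
  have hgen : genericPoint X' ∈ g ⁻¹ᵁ V := ModifLib.genericPoint_mem g hV
  have hne : 𝓙 ≠ ⊥ := fun h => by
    have h1 : genericPoint X' ∈ (𝓙.support : Set X') := by
      rw [h, Scheme.IdealSheafData.support_bot]; trivial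
    rw [Scheme.IdealSheafData.coe_support_vanishingIdeal] at h1
    exact hgx ((Set.mem_singleton_iff.1 h1) ▸ hgen)
  obtain ⟨hBi, -, -⟩ := BlowUpLib.isIntegral_of_isBlowUp hb hne
  haveI := hBi
  haveI : IsProper b := BlowUpLib.isProper_of_isBlowUp hb fun W => by
    haveI := IsLocallyNoetherian.component_noetherian W
    exact IsNoetherian.noetherian _
  let O : X'.Opens := ⟨({x} : Set X')ᶜ, hx.isOpen_compl⟩
  haveI hbO : IsIso (b ∣_ O) := EffCartLib.isIso_off_center 𝓙 b hb O fun y hy hy' => by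
    rw [Scheme.IdealSheafData.coe_support_vanishingIdeal] at hy'
    exact hy hy'
  have hle : g ⁻¹ᵁ V ≤ O := fun y hy h => hgx ((Set.mem_singleton_iff.1 h) ▸ hy)
  haveI : IsIso (b ∣_ g ⁻¹ᵁ V) := ModifLib.isIso_restrict_of_le b hle
  haveI : IsIso ((b ≫ g) ∣_ V) := by rw [morphismRestrict_comp]; infer_instance
  haveI : IsLocallyNoetherian B := LocallyOfFiniteType.isLocallyNoetherian b
  haveI : QuasiCompact (B.fromSpecStalk (genericPoint B)) := inferInstance
  haveI : QuasiSeparated (B.fromSpecStalk (genericPoint B)) := inferInstance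
  haveI : IsFinite (Curv2.normalizationι B) :=
    hfin B (b ≫ g) inferInstance ⟨V, hV, inferInstance⟩
  have hOne : ((b ⁻¹ᵁ O : B.Opens) : Set B).Nonempty :=
    ⟨_, ((b ∣_ O).homeomorph.symm ⟨_, hle hgen⟩).2⟩
  haveI hνO : IsIso (Curv2.normalizationι B ∣_ b ⁻¹ᵁ O) :=
    isIso_normalizationι_of_normal B _ hOne
      (isNormalScheme_of_isIso (b ∣_ O) (isNormalScheme_open hg.normal O))
  haveI : IsIso ((Curv2.normalizationι B ≫ b) ∣_ O) := by rw [morphismRestrict_comp]; infer_instance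
  haveI : IsIso ((Curv2.normalizationι B ≫ b) ∣_ g ⁻¹ᵁ V) :=
    ModifLib.isIso_restrict_of_le _ hle
  refine ⟨Curv2.normalization B, Curv2.normalizationι B ≫ b, ⟨fun r hr => ?_, inferInstance,
    LocFFLib.normalization_isNormal B, inferInstance, ?_⟩, inferInstance, inferInstance, _, rfl, fun z hz => ?_⟩
  · rw [Category.assoc, Category.assoc]
    exact Resolve.IsNormPtBlowupSeq.step b (g ≫ r) x hx hb (hg.seq r hr)
  · rw [morphismRestrict_comp]; infer_instance
  · obtain ⟨p, -, hp⟩ := DivDescLib.exists_gen hb.1 (Curv2.normalizationι B z)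
    refine ⟨((Curv2.normalizationι B).stalkMap z).hom p, ?_⟩
    rw [Scheme.IdealSheafData.comap_comp, DivDescLib.stalkIdeal_comap, hp, Ideal.map_span, Set.image_singleton]

end NormBlowLib
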