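import Mathlib
import Groth.Agent.NormBlowLib.Base
import Groth.Agent.ModifLib.Norm
import Groth.Agent.S9690

/-! Finiteness of normalizations of modifications. -/

set_option autoImplicit false
set_option linter.style.haveILetI false
set_option maxHeartbeats 1000000
set_option backward.isDefEq.respectTransparency false
set_option backward.isDefEq.respectTransparency.types false
universe u

open CategoryTheory CategoryTheory.Limits AlgebraicGeometry TopologicalSpace

namespace NormBlowLib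

theorem exists_normalization_open (X : Scheme.{u}) [IsIntegral X] [IsLocallyNoetherian X]
    [QuasiCompact (X.fromSpecStalk (genericPoint X))] [QuasiSeparated (X.fromSpecStalk (genericPoint X))]
    [IsFinite (Curv2.normalizationι X)] :
    ∃ U : X.Opens, (U : Set X).Nonempty ∧ IsIso (Curv2.normalizationι X ∣_ U) := by
  have hb := LocFFLib.normalization_bir X
  haveI : IsLocallyNoetherian (Curv2.normalization X) := LocallyOfFiniteType.isLocallyNoetherian (Curv2.normalizationι X)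
  obtain ⟨U, hU, hi⟩ := PurBirLib.exists_isIso_restrict (Curv2.normalizationι X) hb (genericPoint _) hb.2
  exact ⟨U, ⟨_, hU⟩, hi⟩

theorem finNorm_nagata {X : Scheme.{u}} (hN : ∀ U : X.affineOpens, CAlg.IsNagata Γ(X, U.1)) : FinNorm X := by
  intro B p _ _ _ hp _
  haveI := hp
  exact ModifLib.isFinite_normalizationι B (ModifLib.isNagata_affineOpens p hN)

theorem FinNorm.comp {X X' : Scheme.{u}} [IsIntegral X] [IsIntegral X'] (hfin : FinNorm X) (g : X' ⟶ X) [IsProper g]
    (hg : ∃ U : X.Opens, (U : Set X).Nonempty ∧ IsIso (g ∣_ U)) : FinNorm X' := by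
  intro B p _ _ _ hp hbir
  haveI := hp
  obtain ⟨U, hU, hUi⟩ := hg
  obtain ⟨W, hW, hWi⟩ := hbir
  haveI := hUi; haveI := hWi
  refine hfin B (p ≫ g) inferInstance ?_
  -- an open of the base inside both
  have hgenU : genericPoint X' ∈ g ⁻¹ᵁ U := ModifLib.genericPoint_mem g hU
  have hgenW : genericPoint X' ∈ W := ((genericPoint_spec X').mem_open_set_iff W.2).2 (by simpa using hW)
  let O : (U : Scheme.{u}).Opens := inv (g ∣_ U) ⁻¹ᵁ ((g ⁻¹ᵁ U).ι ⁻¹ᵁ W)
  let U' : X.Opens := U.ι ''ᵁ O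
  have hle : U' ≤ U := by
    rintro _ ⟨z, -, rfl⟩
    exact z.2
  have hpre : g ⁻¹ᵁ U' ≤ W := fun z hz => by
    obtain ⟨u, hu, hu'⟩ := hz
    have e : (g ∣_ U) ⟨z, hle ⟨u, hu, hu'⟩⟩ = u :=
      Subtype.ext ((morphismRestrict_base_coe g U _).trans hu'.symm)
    have := hu
    rw [← e] at this
    change (g ⁻¹ᵁ U).ι ((inv (g ∣_ U)) ((g ∣_ U) ⟨z, hle ⟨u, hu, hu'⟩⟩)) ∈ W at this
    rw [← Scheme.Hom.comp_apply (g ∣_ U), IsIso.hom_inv_id] at this
    exact this
  haveI := ModifLib.isIso_restrict_of_le g hle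
  haveI := ModifLib.isIso_restrict_of_le p hpre
  refine ⟨U', ⟨_, ⟨(g ∣_ U) ⟨genericPoint X', hgenU⟩, ?_, rfl⟩⟩, ?_⟩
  · show (g ⁻¹ᵁ U).ι ((inv (g ∣_ U)) ((g ∣_ U) ⟨genericPoint X', hgenU⟩)) ∈ W
    rw [← Scheme.Hom.comp_apply (g ∣_ U), IsIso.hom_inv_id]
    exact hgenW
  · rw [morphismRestrict_comp]
    infer_instance

end NormBlowLib
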