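import Mathlib
import Groth.Agent.NormBlowLib.Base
import Groth.Agent.ModifLib.Norm
import Groth.Agent.ModifLib.Curve
import Groth.Agent.ProperClopenLib.Henselian
import Groth.Agent.NagataFG.Closure
import Groth.Agent.RegCentreLib.Basic
import Groth.Agent.CommAlgDim.RegularRing
import Groth.Agent.S7320
import Groth.Agent.PtBlowLib.Divisorial
import Groth.Agent.S9690
import Groth.Agent.RatModLib.Van

/-! Finiteness of normalizations of modifications. -/

set_option autoImplicit false
set_option linter.style.haveILetI false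
set_option maxHeartbeats 1000000
set_option backward.isDefEq.respectTransparency false
set_option backward.isDefEq.respectTransparency.types false
universe u

open CategoryTheory CategoryTheory.Limits AlgebraicGeometry TopologicalSpace

namespace NormBlowLib

theorem finite_app_of_isProper {X Y : Scheme.{u}} [IsLocallyNoetherian Y] (f : X ⟶ Y) [IsProper f] (U : Y.Opens)
    (hU : IsAffineOpen U) : (f.app U).hom.Finite := by
  haveI : IsNoetherianRing Γ(Y, U) := IsLocallyNoetherian.component_noetherian ⟨U, hU⟩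
  haveI : IsAffine (U : Scheme.{u}) := hU
  letI : (f ⁻¹ᵁ U : Scheme.{u}).Over (Spec (CommRingCat.of Γ(Y, U))) := ⟨(f ∣_ U) ≫ hU.isoSpec.hom⟩
  haveI : IsProper (f ∣_ U) := MorphismProperty.of_isPullback (isPullback_morphismRestrict f U).flip (inferInstanceAs (IsProper f))
  haveI : IsProper ((f ⁻¹ᵁ U : Scheme.{u}) ↘ Spec (CommRingCat.of Γ(Y, U))) :=
    inferInstanceAs (IsProper ((f ∣_ U) ≫ hU.isoSpec.hom))
  have h := ProperClopenLib.finite_toGlobal (A := Γ(Y, U)) (X := (f ⁻¹ᵁ U : Scheme.{u}))
  have e : Coh.toGlobal ((f ⁻¹ᵁ U : Scheme.{u}) ↘ Spec (CommRingCat.of Γ(Y, U))) =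
      (f.app U ≫ (f ⁻¹ᵁ U).topIso.inv).hom := by
    show ((Scheme.ΓSpecIso Γ(Y, U)).inv ≫ ((f ∣_ U) ≫ hU.isoSpec.hom).appTop).hom = _
    congr 1
    rw [Scheme.Hom.comp_appTop, morphismRestrict_appTop, IsAffineOpen.isoSpec_hom_appTop]
    simp [Scheme.Opens.topIso, Scheme.Hom.app_eq_appLE]
  rw [e] at h
  have h2 : (f.app U).hom = ((f ⁻¹ᵁ U).topIso.hom).hom.comp (f.app U ≫ (f ⁻¹ᵁ U).topIso.inv).hom := by
    rw [← CommRingCat.hom_comp, Category.assoc, Iso.inv_hom_id, Category.comp_id]
  rw [h2]
  exact (RingHom.Finite.of_surjective _ (ConcreteCategory.bijective_of_isIso (f ⁻¹ᵁ U).topIso.hom).2).comp h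

/-- A normal modification forces a finite normalization. -/
theorem isFinite_normalizationι_of_dominated {B Z : Scheme.{u}} [IsIntegral B] [IsIntegral Z] [IsLocallyNoetherian B]
    [QuasiCompact (B.fromSpecStalk (genericPoint B))] [QuasiSeparated (B.fromSpecStalk (genericPoint B))]
    (m : Z ⟶ B) [IsProper m] (hgen : m (genericPoint Z) = genericPoint B) (hZ : Pi1.IsNormalScheme Z) :
    IsFinite (Curv2.normalizationι B) := by
  obtain ⟨h, hh, -⟩ := Groth.Agent.S9690.result B m hZ fun z hz => by
    have hz' : z = genericPoint Z := by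
      have e : closure ({z} : Set Z) = Set.univ := by
        rw [irreducibleComponents_eq_singleton] at hz; exact hz
      exact IsGenericPoint.eq e (genericPoint_spec Z)
    subst hz'
    exact hgen
  haveI : QuasiCompact h := by
    haveI : QuasiCompact (h ≫ Curv2.normalizationι B) := by rw [hh]; infer_instance
    exact QuasiCompact.of_comp h (Curv2.normalizationι B)
  haveI : IsDominant h := by
    refine ⟨?_⟩
    have hg : h (genericPoint Z) = genericPoint (Curv2.normalization B) := by
      refine PurBirLib.eq_generic_of_map_generic _ (LocFFLib.normalization_bir B) ?_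
      rw [← Scheme.Hom.comp_apply, hh]
      exact hgen
    refine Dense.mono (Set.singleton_subset_iff.2 ⟨_, hg⟩) ?_
    exact dense_iff_closure_eq.2 (genericPoint_spec _)
  haveI := IsSchemeTheoreticallyDominant.of_isDominant h
  refine IsFinite.mk (fun U hU => ?_)
  haveI : IsNoetherianRing Γ(B, U) := IsLocallyNoetherian.component_noetherian ⟨U, hU⟩
  subst hh
  have hgf := finite_app_of_isProper (h ≫ Curv2.normalizationι B) U hU
  rw [Scheme.Hom.comp_app] at hgf
  letI := ((Curv2.normalizationι B).app U).hom.toAlgebra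
  letI := ((Curv2.normalizationι B).app U ≫ h.app ((Curv2.normalizationι B) ⁻¹ᵁ U)).hom.toAlgebra
  haveI : Module.Finite Γ(B, U) Γ(Z, h ⁻¹ᵁ ((Curv2.normalizationι B) ⁻¹ᵁ U)) := hgf
  exact Module.Finite.of_injective
    ({ (h.app ((Curv2.normalizationι B) ⁻¹ᵁ U)).hom with commutes' := fun r => rfl } :
      Γ(Curv2.normalization B, (Curv2.normalizationι B) ⁻¹ᵁ U) →ₐ[Γ(B, U)] Γ(Z, h ⁻¹ᵁ ((Curv2.normalizationι B) ⁻¹ᵁ U))).toLinearMap
    (h.app_injective _)

/-- A resolved surface has finite normalizations of modifications. -/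
theorem finNorm_of_resolution {X : Scheme.{u}} [IsIntegral X] [IsNoetherian X] (hdim : topologicalKrullDim X ≤ 2)
    {R : Scheme.{u}} [IsIntegral R] (r : R ⟶ X) [IsProper r] {V : X.Opens} (hV : (V : Set X).Nonempty)
    [IsIso (r ∣_ V)] (hreg : ∀ x : R, IsRegularLocalRing (R.presheaf.stalk x)) : FinNorm X := by
  intro B p _ _ _ hp hbir
  obtain ⟨U, hU, hUi⟩ := hbir
  haveI := hp; haveI := hUi
  haveI : IsLocallyNoetherian B := LocallyOfFiniteType.isLocallyNoetherian p
  haveI : IsLocallyNoetherian R := LocallyOfFiniteType.isLocallyNoetherian r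
  haveI : CompactSpace R := QuasiCompact.compactSpace_of_compactSpace r
  haveI : IsNoetherian R := {}
  let D : X.Opens := U ⊓ V
  have hDne : (D : Set X).Nonempty := ⟨genericPoint X, ((genericPoint_spec X).mem_open_set_iff U.2).2 (by simpa using hU),
    ((genericPoint_spec X).mem_open_set_iff V.2).2 (by simpa using hV)⟩
  haveI : Nonempty D := hDne.to_subtype
  haveI : IsIso (p ∣_ D) := ModifLib.isIso_restrict_of_le p inf_le_left
  haveI : IsIso (r ∣_ D) := ModifLib.isIso_restrict_of_le r inf_le_right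
  haveI := ModifLib.isIso_pullback_restrict p r (D := D)
  obtain ⟨W, c, hc, hWi, hWiso⟩ := ModifLib.exists_integral_closure (pullback.snd p r ≫ r) D
  haveI := hc; haveI := hWi; haveI := hWiso
  let q : W ⟶ R := c ≫ pullback.snd p r
  haveI : IsProper q := inferInstanceAs (IsProper (c ≫ pullback.snd p r))
  haveI : IsIso (q ∣_ r ⁻¹ᵁ D) := by
    have : IsIso ((q ∣_ r ⁻¹ᵁ D) ≫ (r ∣_ D)) := by
      rw [← morphismRestrict_comp]
      have key : ∀ m, m = c ≫ pullback.snd p r ≫ r → IsIso (m ∣_ D) := fun m hm => by subst hm; exact hWiso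
      exact key _ (Category.assoc c (pullback.snd p r) r)
    exact IsIso.of_isIso_comp_right _ (r ∣_ D)
  have hDn : ((r ⁻¹ᵁ D : R.Opens) : Set R).Nonempty := ⟨_, ModifLib.genericPoint_mem r hDne⟩
  haveI : IsIso (q.stalkMap (genericPoint W)) := ModifLib.isIso_stalkMap_genericPoint q hDn
  obtain ⟨V', hV', -, hV'2⟩ := Groth.Agent.S11555.result q (RatModLib.isNormal_of_regular hreg)
    (ModifLib.map_genericPoint q hDn) (ConcreteCategory.bijective_of_isIso (q.stalkMap (genericPoint W)))
  have hdR : topologicalKrullDim R ≤ 2 :=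
    ModifLib.dim_source_le r hV 2 fun s => (DimIneqLib.stalk_dim_le_dim s).trans hdim
  let T : Set R := (V' : Set R)ᶜ
  have hTc : IsClosed T := V'.2.isClosed_compl
  have hTf : T.Finite := PtBlowLib.finite_of_closedPoints hTc fun z hz => PtBlowLib.isClosed_of_two_le hdR z (hV'2 z hz)
  obtain ⟨X', g, hg, hgT, h, hh⟩ := Groth.Agent.S7320.result R T hTf hTc (fun z hz =>
    ⟨PtBlowLib.isClosed_of_two_le hdR z (hV'2 z hz), hreg z,
      le_antisymm ((DimIneqLib.stalk_dim_le_dim z).trans hdR) (hV'2 z hz)⟩) q (by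
        rw [show (⟨Tᶜ, hTc.isOpen_compl⟩ : R.Opens) = V' from Opens.ext (compl_compl _)]
        exact hV')
  obtain ⟨hX'i, hX's, hgm, -⟩ := RatModLib.van_of_contractionSeq g hg (SncLib.Surf.mk inferInstance inferInstance hreg hdR)
  have hgp := hgm.proper
  have hX'r := hX's.regular
  haveI := hX'i; haveI := hgp; haveI := hgT
  haveI : IsProper h := by
    haveI : IsProper (h ≫ q) := hh.symm ▸ hgp
    exact IsProper.of_comp h q
  let m : X' ⟶ B := h ≫ c ≫ pullback.fst p r
  haveI : IsProper m := inferInstanceAs (IsProper (h ≫ c ≫ pullback.fst p r))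
  refine isFinite_normalizationι_of_dominated m ?_ (RatModLib.isNormal_of_regular hX'r)
  -- generic point
  have hTne : ((⟨Tᶜ, hTc.isOpen_compl⟩ : R.Opens) : Set R).Nonempty := ⟨genericPoint R, fun hT => by
    have := hV'2 _ hT
    rw [ringKrullDim_eq_zero_of_field R.functionField] at this
    exact absurd this (by norm_num)⟩
  have hmp : p (m (genericPoint X')) = genericPoint X := by
    rw [← Scheme.Hom.comp_apply]
    have : m ≫ p = g ≫ r := by
      simp only [m, Category.assoc, pullback.condition]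
      rw [← hh]; simp only [q, Category.assoc]
    rw [this, Scheme.Hom.comp_apply, ModifLib.map_genericPoint g hTne, ModifLib.map_genericPoint r hV]
  have hmem : genericPoint B ∈ p ⁻¹ᵁ U := ModifLib.genericPoint_mem p hU
  have hmem' : m (genericPoint X') ∈ p ⁻¹ᵁ U := by
    show p _ ∈ U
    rw [hmp]
    exact ((genericPoint_spec X).mem_open_set_iff U.2).2 (by simpa using hU)
  exact congrArg Subtype.val ((p ∣_ U).isOpenEmbedding.injective (a₁ := ⟨_, hmem'⟩) (a₂ := ⟨_, hmem⟩)
    (Subtype.ext ((morphismRestrict_base_coe p U ⟨_, hmem'⟩).trans ((hmp.trans (ModifLib.map_genericPoint p hU).symm).trans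
      (morphismRestrict_base_coe p U ⟨genericPoint B, hmem⟩).symm))))

end NormBlowLib
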