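import Mathlib
import Groth.Agent.ModifLib.Basic

/-! Fractions and monic relations for local rings of modifications. -/

set_option autoImplicit false
set_option linter.style.haveILetI false
set_option backward.isDefEq.respectTransparency false
universe u

open CategoryTheory CategoryTheory.Limits AlgebraicGeometry TopologicalSpace

namespace NormBlowLib

/-- A local function on a modification is a quotient of local functions on the target. -/
theorem exists_fraction {X Y : Scheme.{u}} [IsIntegral X] [IsIntegral Y] (f : X ⟶ Y) {W : Y.Opens}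
    (hW : (W : Set Y).Nonempty) [IsIso (f ∣_ W)] (x : X) (t : X.presheaf.stalk x) :
    ∃ a b : Y.presheaf.stalk (f x), (f.stalkMap x).hom a = t * (f.stalkMap x).hom b ∧ (f.stalkMap x).hom b ≠ 0 := by
  haveI := ModifLib.isIso_stalkMap_genericPoint f hW
  have hξ := ModifLib.map_genericPoint f hW
  have hsp : genericPoint X ⤳ x := (genericPoint_spec X).specializes trivial
  let e : Y.functionField ≅ X.functionField :=
    Y.presheaf.stalkCongr (.of_eq hξ.symm) ≪≫ asIso (f.stalkMap (genericPoint X))
  have key : ∀ r, e.hom (algebraMap (Y.presheaf.stalk (f x)) Y.functionField r) =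
      algebraMap (X.presheaf.stalk x) X.functionField ((f.stalkMap x).hom r) := fun r => by
    have key : Y.presheaf.stalkSpecializes ((genericPoint_spec Y).specializes (Set.mem_univ (f x))) ≫ e.hom =
        f.stalkMap x ≫ X.presheaf.stalkSpecializes hsp := by
      simp only [e, Iso.trans_hom, TopCat.Presheaf.stalkCongr_hom, asIso_hom]
      rw [← Category.assoc, TopCat.Presheaf.stalkSpecializes_comp]
      exact (Scheme.Hom.stalkSpecializes_stalkMap f (genericPoint X) x hsp)
    exact congr($(key) r)
  obtain ⟨⟨a, b⟩, hab⟩ := IsLocalization.surj (nonZeroDivisors (Y.presheaf.stalk (f x)))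
    (e.inv (algebraMap (X.presheaf.stalk x) X.functionField t))
  refine ⟨a, b, IsFractionRing.injective (X.presheaf.stalk x) X.functionField ?_, fun h => ?_⟩
  · rw [map_mul, ← key, ← key]
    have h2 := congrArg e.hom hab
    rw [map_mul, Iso.inv_hom_id_apply] at h2
    exact h2.symm
  · have h2 : e.hom (algebraMap (Y.presheaf.stalk (f x)) Y.functionField (b : Y.presheaf.stalk (f x))) = 0 := by
      rw [key, h, map_zero]
    have h3 : algebraMap (Y.presheaf.stalk (f x)) Y.functionField (b : Y.presheaf.stalk (f x)) = 0 := by
      have h4 := congrArg e.inv h2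
      rwa [Iso.hom_inv_id_apply, map_zero] at h4
    exact nonZeroDivisors.coe_ne_zero b (IsFractionRing.injective (Y.presheaf.stalk (f x)) Y.functionField
      (h3.trans (map_zero _).symm))

/-- A function at a closed point satisfies a monic relation over the image, modulo the maximal ideal. -/
theorem exists_monic {X Y : Scheme.{u}} (g : X ⟶ Y) (x : X) (hfin : (g.residueFieldMap x).hom.Finite)
    (c : X.presheaf.stalk x) :
    ∃ q : Polynomial (Y.presheaf.stalk (g x)), q.Monic ∧
      q.eval₂ (g.stalkMap x).hom c ∈ IsLocalRing.maximalIdeal (X.presheaf.stalk x) := by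
  obtain ⟨p, hp, hpc⟩ := hfin.to_isIntegral ((X.residue x).hom c)
  have hlift : p ∈ Polynomial.lifts (Y.residue (g x)).hom := by
    rw [Polynomial.lifts_iff_coeff_lifts]
    intro i
    exact Scheme.residue_surjective Y (g x) _
  obtain ⟨q, hq, -, hqm⟩ := Polynomial.lifts_and_degree_eq_and_monic hlift hp
  refine ⟨q, hqm, ?_⟩
  have h0 : (X.residue x).hom (q.eval₂ (g.stalkMap x).hom c) = 0 := by
    rw [Polynomial.hom_eval₂]
    rw [← hq, Polynomial.eval₂_map] at hpc
    refine Eq.trans ?_ hpc
    congr 1
  exact (IsLocalRing.residue_eq_zero_iff (R := X.presheaf.stalk x) _).1 h0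

end NormBlowLib
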