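import Mathlib
import Groth.Agent.NormBlowLib.Base
import Groth.Agent.NormBlowLib.Frac
import Groth.Agent.PtBlowLib.Divisorial
import Groth.Agent.PtBlowLib.Stalk
import Groth.Agent.ParaFLib.Normal
import Groth.Agent.S9331
import Groth.Agent.S9332

/-! Following a discrete valuation through normalized blowing ups. -/

set_option autoImplicit false
set_option linter.style.haveILetI false
set_option maxHeartbeats 1000000
set_option backward.isDefEq.respectTransparency false
set_option backward.isDefEq.respectTransparency.types false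
universe u

open CategoryTheory CategoryTheory.Limits AlgebraicGeometry TopologicalSpace

namespace NormBlowLib

variable {X : Scheme.{u}} [IsIntegral X] [IsNoetherian X] {V : X.Opens}

/-- The valuation of a morphism from a local scheme has reached a point of dimension at most one. -/
def Good {S : Scheme.{u}} (c : S) (ρ : S ⟶ X) {X' : Scheme.{u}} (g : X' ⟶ X) : Prop :=
  ∃ σ : S ⟶ X', σ ≫ g = ρ ∧ ringKrullDim (X'.presheaf.stalk (σ c)) ≤ 1

omit [IsIntegral X] [AlgebraicGeometry.IsNoetherian X] in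
theorem Good.lift {S : Scheme.{u}} [IsIntegral S] [IsLocallyNoetherian S] (hS : Pi1.IsNormalScheme S)
    (hdS : ∀ s : S, ringKrullDim (S.presheaf.stalk s) ≤ 1) {c : S} {ρ : S ⟶ X} (hρ : ρ (genericPoint S) ∈ V)
    {X' : Scheme.{u}} {g : X' ⟶ X} (h : Good c ρ g) {X'' : Scheme.{u}} (π : X'' ⟶ X') [IsProper π]
    (O : X'.Opens) [IsIso (π ∣_ O)] (hO : g ⁻¹ᵁ V ≤ O) (hgood : ∀ z : X', z ∉ O → ¬ ringKrullDim (X'.presheaf.stalk z) ≤ 1) :
    Good c ρ (π ≫ g) := by
  obtain ⟨σ, hσ, hd⟩ := h
  have hgen : σ (genericPoint S) ∈ O := hO (show g (σ (genericPoint S)) ∈ V by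
    rw [← Scheme.Hom.comp_apply, hσ]; exact hρ)
  obtain ⟨τ, hτ⟩ := exists_lift π O hS hdS σ hgen
  refine ⟨τ, by rw [← Category.assoc, hτ, hσ], ?_⟩
  subst hτ
  have hmem : π (τ c) ∈ O := by
    by_contra hc
    exact hgood _ hc hd
  haveI : IsIso (π.stalkMap (τ c)) :=
    ((MorphismProperty.isomorphisms CommRingCat.{u}).arrow_mk_iso_iff (morphismRestrictStalkMap π O ⟨τ c, hmem⟩)).1
      (inferInstanceAs (IsIso _))
  rw [← ringKrullDim_eq_of_ringEquiv (asIso (π.stalkMap (τ c))).commRingCatIsoToRingEquiv]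
  exact hd

/-- The residue of `t` is transcendental over the image. -/
def Trans {S : Scheme.{u}} (c : S) (ρ : S ⟶ X) (t : S.presheaf.stalk c) : Prop :=
  ∀ q : Polynomial (X.presheaf.stalk (ρ c)), q.Monic →
    q.eval₂ (ρ.stalkMap c).hom t ∉ IsLocalRing.maximalIdeal (S.presheaf.stalk c)

omit [IsIntegral X] [AlgebraicGeometry.IsNoetherian X] in
theorem trans_congr {S : Scheme.{u}} {c : S} {ρ ρ' : S ⟶ X} (h : ρ = ρ') {t : S.presheaf.stalk c}
    (ht : Trans c ρ t) : Trans c ρ' t := h ▸ ht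

theorem descent (hfin : FinNorm X) (hV : (V : Set X).Nonempty) (hdim : topologicalKrullDim X ≤ 2)
    {S : Scheme.{u}} [IsIntegral S] [IsLocallyNoetherian S] (hS : Pi1.IsNormalScheme S)
    (hdS : ∀ s : S, ringKrullDim (S.presheaf.stalk s) ≤ 1) (c : S) (t : S.presheaf.stalk c) :
    ∀ (N : ℕ) {X' : Scheme.{u}} (g : X' ⟶ X), IsSt V g → ∀ (σ : S ⟶ X'),
      (σ ≫ g) (genericPoint S) ∈ V → (σ ≫ g) c ∉ V → Trans c (σ ≫ g) t →
      ∀ a b : X'.presheaf.stalk (σ c), (σ.stalkMap c).hom a = t * (σ.stalkMap c).hom b →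
        (σ.stalkMap c).hom b ∉ IsLocalRing.maximalIdeal (S.presheaf.stalk c) ^ N →
      ∃ (X'' : Scheme.{u}) (π : X'' ⟶ X'), IsSt V (π ≫ g) ∧ Good c (σ ≫ g) (π ≫ g) ∧
        ∀ {S' : Scheme.{u}} [IsIntegral S'] [IsLocallyNoetherian S'], Pi1.IsNormalScheme S' →
          (∀ s : S', ringKrullDim (S'.presheaf.stalk s) ≤ 1) → ∀ (c' : S') (ρ' : S' ⟶ X),
            ρ' (genericPoint S') ∈ V → Good c' ρ' g → Good c' ρ' (π ≫ g) := by
  intro N
  induction N with
  | zero =>
    intro X' g hg σ _ _ _ a b _ hb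
    exact absurd (by simp) hb
  | succ N ih =>
    intro X' g hg σ hρ hs ht a b hab hb
    by_cases hgood : ringKrullDim (X'.presheaf.stalk (σ c)) ≤ 1
    · refine ⟨X', 𝟙 X', by rwa [Category.id_comp], ⟨σ, by rw [Category.id_comp], hgood⟩, fun _ _ c' ρ' _ h => ?_⟩
      rwa [Category.id_comp]
    haveI := hg.proper; haveI := hg.integral; haveI := hg.noetherian
    let x := σ c
    have hd2 : (2 : WithBot ℕ∞) ≤ ringKrullDim (X'.presheaf.stalk x) := by
      rw [ringKrullDim_stalk_eq_coheight] at hgood ⊢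
      refine WithBot.coe_le_coe.2 ?_
      have : (1 : ℕ∞) < Order.coheight x := not_le.1 fun h => hgood (WithBot.coe_le_coe.2 h)
      exact (one_add_one_eq_two (R := ℕ∞)).symm.le.trans (Order.add_one_le_of_lt this)
    have hx : IsClosed ({x} : Set X') := PtBlowLib.isClosed_of_two_le (hg.dim_le hV hdim) x hd2
    have hfx : (g.residueFieldMap x).hom.Finite := by
      refine (Groth.Agent.S9332.result g x).1 ?_
      have h : ({g.asFiber x} : Set (g.fiber (g x))) = g.fiberι (g x) ⁻¹' {x} := by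
        rw [← Set.image_singleton (f := g.fiberι (g x)) (a := g.asFiber x) |>.trans
          (congrArg (fun z => ({z} : Set X')) (g.fiberι_asFiber x)),
          (g.fiberι (g x)).isEmbedding.injective.preimage_image]
      rw [h]
      exact hx.preimage (g.fiberι (g x)).continuous
    let φ := (σ.stalkMap c).hom
    let mS := IsLocalRing.maximalIdeal (S.presheaf.stalk c)
    haveI : IsLocalHom φ := inferInstanceAs (IsLocalHom (σ.stalkMap c).hom)
    haveI : IsDomain (S.presheaf.stalk c) := (hS c).1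
    have hbm : b ∈ IsLocalRing.maximalIdeal (X'.presheaf.stalk x) := by
      by_contra hu
      obtain ⟨u, rfl⟩ := (not_not.1 fun h => hu ((IsLocalRing.mem_maximalIdeal _).2 h) : IsUnit b)
      have hc : φ (a * ↑u⁻¹) = t := by
        rw [map_mul, hab, mul_assoc, ← map_mul, Units.mul_inv, map_one, mul_one]
      obtain ⟨q, hq, hqm⟩ := exists_monic g x hfx (a * ↑u⁻¹)
      refine ht q hq ?_
      have h1 : φ (q.eval₂ (g.stalkMap x).hom (a * ↑u⁻¹)) ∈ mS := fun h => hqm (isUnit_of_map_unit φ _ h)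
      rw [Polynomial.hom_eval₂, hc] at h1
      rw [Scheme.Hom.stalkMap_comp]
      exact h1
    have hφb : φ b ∈ mS := fun h => hbm (isUnit_of_map_unit φ _ h)
    have ham : a ∈ IsLocalRing.maximalIdeal (X'.presheaf.stalk x) := fun h => by
      have h1 : IsUnit (φ a) := h.map φ
      rw [show φ a = t * φ b from hab] at h1
      exact hφb (isUnit_of_mul_isUnit_right h1)
    obtain ⟨X'', π, hg', hπ, hiso, C, hC, hgen⟩ := exists_blow hfin hV hg x hx hs
    haveI := hπ; haveI := hiso
    let O : X'.Opens := ⟨({x} : Set X')ᶜ, hx.isOpen_compl⟩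
    have hle : g ⁻¹ᵁ V ≤ O := fun y hy h => hs (by cases Set.mem_singleton_iff.1 h; exact hy)
    obtain ⟨τ, hτ⟩ := exists_lift π O hS hdS σ (hle hρ)
    subst hτ
    obtain ⟨p, hp⟩ := hgen (τ c) rfl
    have hm : ∀ r ∈ IsLocalRing.maximalIdeal (X'.presheaf.stalk x), ∃ r', (π.stalkMap (τ c)).hom r = r' * p := fun r hr => by
      have h1 : (π.stalkMap (τ c)).hom r ∈ IntMult.stalkIdeal C (τ c) := by
        rw [hC, DivDescLib.stalkIdeal_comap]
        refine Ideal.mem_map_of_mem _ ?_
        exact (PtBlowLib.stalkIdeal_vanishing_point _ hx).ge hr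
      rw [hp] at h1
      obtain ⟨r', hr'⟩ := Ideal.mem_span_singleton'.1 h1
      exact ⟨r', hr'.symm⟩
    obtain ⟨a', ha'⟩ := hm a ham
    obtain ⟨b', hb'⟩ := hm b hbm
    have hpm : p ∈ IsLocalRing.maximalIdeal (X''.presheaf.stalk (τ c)) := by
      have h1 : IntMult.stalkIdeal C (τ c) ≤ IsLocalRing.maximalIdeal (X''.presheaf.stalk (τ c)) := by
        rw [hC, DivDescLib.stalkIdeal_comap, Ideal.map_le_iff_le_comap]
        intro r hr hu
        have hr' := (PtBlowLib.stalkIdeal_vanishing_point _ hx).le hr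
        exact hr' (isUnit_of_map_unit (π.stalkMap (τ c)).hom r hu)
      exact h1 (hp.ge (Ideal.mem_span_singleton_self p))
    have hcomp : ∀ r, φ r = (τ.stalkMap c).hom ((π.stalkMap (τ c)).hom r) := fun r => by
      show ((τ ≫ π).stalkMap c).hom r = _
      rw [Scheme.Hom.stalkMap_comp]
      rfl
    have hpS : (τ.stalkMap c).hom p ∈ mS := fun h => hpm (isUnit_of_map_unit (τ.stalkMap c).hom p h)
    have hbN : (τ.stalkMap c).hom b' ∉ mS ^ N := fun h => hb <| by
      show φ b ∈ _
      rw [hcomp, hb', map_mul, pow_succ]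
      exact Ideal.mul_mem_mul h hpS
    have hp0 : (τ.stalkMap c).hom p ≠ 0 := fun h => hb <| by
      show φ b ∈ _
      rw [hcomp, hb', map_mul, h, mul_zero]
      exact Ideal.zero_mem _
    have hab' : (τ.stalkMap c).hom a' = t * (τ.stalkMap c).hom b' := mul_right_cancel₀ hp0 <| by
      rw [← map_mul, ← ha', mul_assoc, ← map_mul, ← hb', ← hcomp, ← hcomp]
      exact hab
    obtain ⟨X₃, π', hst, hgood', hpres⟩ := ih (π ≫ g) hg' τ (by rw [← Category.assoc]; exact hρ)
      (by rw [← Category.assoc]; exact hs) (trans_congr (Category.assoc τ π g) ht) a' b' hab' hbN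
    refine ⟨X₃, π' ≫ π, by rwa [Category.assoc], ?_, fun hS' hdS' c' ρ' hρ' h => ?_⟩
    · rw [Category.assoc, Category.assoc]
      exact hgood'
    · rw [Category.assoc]
      refine hpres hS' hdS' c' ρ' hρ' (Good.lift hS' hdS' hρ' h π O hle fun z hz hle1 => hgood ?_)
      have hzx : z = x := not_not.1 fun h' => hz h'
      cases hzx
      exact hle1

end NormBlowLib
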