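import Mathlib
import Groth.Agent.NormBlowLib.Good
import Groth.Agent.RelMinSmLib.Topology
import Groth.Agent.AlgSpLib.ReducedStalk
import Groth.Agent.ModifLib.Curve

/-! Normalized blowing ups dominate modifications of normal surfaces. -/

set_option autoImplicit false
set_option linter.style.haveILetI false
set_option maxHeartbeats 1000000
set_option backward.isDefEq.respectTransparency false
set_option backward.isDefEq.respectTransparency.types false
universe u

open CategoryTheory CategoryTheory.Limits AlgebraicGeometry TopologicalSpace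

namespace NormBlowLib

theorem fromSpecStalk_stalkMap_bijective {Y : Scheme.{u}} (y : Y) (p : Spec (Y.presheaf.stalk y)) :
    Function.Bijective ((Y.fromSpecStalk y).stalkMap p).hom := by
  let q := Y.fromSpecStalk y
  haveI := AlgSpLib.flat_fromSpecStalk y
  refine ⟨?_, q.stalkMap_surjective p⟩
  letI := (q.stalkMap p).hom.toAlgebra
  haveI : Module.Flat (Y.presheaf.stalk (q p)) ((Spec (Y.presheaf.stalk y)).presheaf.stalk p) := Flat.stalkMap q p
  haveI : IsLocalHom (algebraMap (Y.presheaf.stalk (q p)) ((Spec (Y.presheaf.stalk y)).presheaf.stalk p)) :=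
    inferInstanceAs (IsLocalHom (q.stalkMap p).hom)
  haveI := Module.FaithfullyFlat.of_flat_of_isLocalHom (A := Y.presheaf.stalk (q p))
    (B := (Spec (Y.presheaf.stalk y)).presheaf.stalk p)
  exact FaithfulSMul.algebraMap_injective _ _

/-- Points of a curve fibre: a residue transcendental over the image. -/
theorem exists_trans {Y X : Scheme.{u}} (f : Y ⟶ X) (y : Y) (hy : ¬ IsClosed ({y} : Set Y))
    (hfy : IsClosed ({f y} : Set X)) :
    ∃ t : Y.presheaf.stalk y, ∀ q : Polynomial (X.presheaf.stalk (f y)), q.Monic →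
      q.eval₂ (f.stalkMap y).hom t ∉ IsLocalRing.maximalIdeal (Y.presheaf.stalk y) := by
  letI := (f.residueFieldMap y).hom.toAlgebra
  by_contra hcon
  push Not at hcon
  refine hy ((Groth.Agent.S9331.result f y ⟨fun w => ?_⟩).2 hfy)
  obtain ⟨t, rfl⟩ := Scheme.residue_surjective Y y w
  obtain ⟨q, hq, hqt⟩ := hcon t
  refine ⟨q.map (X.residue (f y)).hom, (hq.map _).ne_zero, ?_⟩
  have h0 : (Y.residue y).hom (q.eval₂ (f.stalkMap y).hom t) = 0 :=
    (IsLocalRing.residue_eq_zero_iff (R := Y.presheaf.stalk y) _).2 hqt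
  rw [Polynomial.hom_eval₂] at h0
  rw [Polynomial.aeval_def, Polynomial.eval₂_map]
  refine Eq.trans ?_ h0
  congr 1

variable {X : Scheme.{u}} [IsIntegral X] [IsNoetherian X] {V : X.Opens}

/-- One valuation. -/
theorem exists_good (hn : Pi1.IsNormalScheme X) (hfin : FinNorm X) (hV : (V : Set X).Nonempty) (hdim : topologicalKrullDim X ≤ 2)
    {Y : Scheme.{u}} [IsIntegral Y] [IsLocallyNoetherian Y] (hYn : Pi1.IsNormalScheme Y) (f : Y ⟶ X) [IsIso (f ∣_ V)]
    (y : Y) (hy : ringKrullDim (Y.presheaf.stalk y) ≤ 1) (hfy : f y ∉ V) (hync : ¬ IsClosed ({y} : Set Y))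
    (hfyc : IsClosed ({f y} : Set X))
    {X' : Scheme.{u}} (g : X' ⟶ X) (hg : IsSt V g) :
    ∃ (X'' : Scheme.{u}) (π : X'' ⟶ X'), IsSt V (π ≫ g) ∧
      Good (IsLocalRing.closedPoint (Y.presheaf.stalk y)) (Y.fromSpecStalk y ≫ f) (π ≫ g) ∧
      ∀ {S' : Scheme.{u}} [IsIntegral S'] [IsLocallyNoetherian S'], Pi1.IsNormalScheme S' →
        (∀ s : S', ringKrullDim (S'.presheaf.stalk s) ≤ 1) → ∀ (c' : S') (ρ' : S' ⟶ X),
          ρ' (genericPoint S') ∈ V → Good c' ρ' g → Good c' ρ' (π ≫ g) := by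
  haveI := hg.proper; haveI := hg.iso; haveI := hg.integral
  haveI := (hYn y).1
  haveI := (hYn y).2
  let S := Spec (Y.presheaf.stalk y)
  let j : S ⟶ Y := Y.fromSpecStalk y
  let c : S := IsLocalRing.closedPoint (Y.presheaf.stalk y)
  have hjc : j c = y := Scheme.fromSpecStalk_closedPoint
  haveI : IsIntegral S := inferInstanceAs (IsIntegral (Spec (CommRingCat.of (Y.presheaf.stalk y))))
  haveI : IsLocallyNoetherian S := inferInstanceAs (IsLocallyNoetherian (Spec (CommRingCat.of (Y.presheaf.stalk y))))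
  have hS : Pi1.IsNormalScheme S := ParaFLib.isNormal_spec (Y.presheaf.stalk y)
  have hdS : ∀ s : S, ringKrullDim (S.presheaf.stalk s) ≤ 1 := fun s =>
    ((DimIneqLib.stalk_dim_le_dim s).trans_eq (PrimeSpectrum.topologicalKrullDim_eq_ringKrullDim _)).trans hy
  have hgenS : (j ≫ f) (genericPoint S) ∈ V := by
    have hη : j (genericPoint S) = genericPoint Y := by
      obtain ⟨P, hP⟩ : genericPoint Y ∈ Set.range j := by
        rw [Scheme.range_fromSpecStalk]
        exact genericPoint_specializes y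
      exact ((genericPoint_specializes (j (genericPoint S))).antisymm
        (hP ▸ (genericPoint_specializes P).map j.continuous)).eq.symm
    show f (j (genericPoint S)) ∈ V
    rw [hη]
    exact ModifLib.genericPoint_mem f hV
  obtain ⟨σ, hσ⟩ := exists_lift g V hS hdS (j ≫ f) hgenS
  obtain ⟨t₀, ht₀⟩ := exists_trans f (j c) (hjc.symm ▸ hync) (hjc.symm ▸ hfyc)
  let t := (j.stalkMap c).hom t₀
  have htr : Trans c (j ≫ f) t := fun q hq h => by
    refine ht₀ q hq ?_
    rw [Scheme.Hom.stalkMap_comp, CommRingCat.hom_comp, ← Polynomial.hom_eval₂] at h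
    intro hu
    exact h (hu.map (j.stalkMap c).hom)
  obtain ⟨a₀, b₀, hab₀, hb₀⟩ := exists_fraction f hV (j c) t₀
  have hb₁ : (j.stalkMap c).hom ((f.stalkMap (j c)).hom b₀) ≠ 0 := fun h =>
    hb₀ ((fromSpecStalk_stalkMap_bijective y c).1 (h.trans (map_zero _).symm))
  have hab₁ : ((j ≫ f).stalkMap c).hom a₀ = t * ((j ≫ f).stalkMap c).hom b₀ := by
    rw [Scheme.Hom.stalkMap_comp]
    show (j.stalkMap c).hom ((f.stalkMap (j c)).hom a₀) = t * (j.stalkMap c).hom ((f.stalkMap (j c)).hom b₀)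
    rw [hab₀, map_mul]
  have hb₂ : ((j ≫ f).stalkMap c).hom b₀ ≠ 0 := by
    rw [Scheme.Hom.stalkMap_comp]
    exact hb₁
  have hfy' : (j ≫ f) c ∉ V := fun h => hfy (hjc ▸ h)
  -- push to the current stage
  have key : ∀ ρ : S ⟶ X, ρ = σ ≫ g → ∀ a b : X.presheaf.stalk (ρ c), (ρ.stalkMap c).hom a = t * (ρ.stalkMap c).hom b →
      (ρ.stalkMap c).hom b ≠ 0 → ∃ a' b' : X'.presheaf.stalk (σ c),
        (σ.stalkMap c).hom a' = t * (σ.stalkMap c).hom b' ∧ (σ.stalkMap c).hom b' ≠ 0 := by
    rintro ρ rfl a b hab hb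
    rw [Scheme.Hom.stalkMap_comp] at hab hb
    exact ⟨(g.stalkMap (σ c)).hom a, (g.stalkMap (σ c)).hom b, hab, hb⟩
  obtain ⟨a, b, hab, hb⟩ := key (j ≫ f) hσ.symm a₀ b₀ hab₁ hb₂
  haveI : IsNoetherianRing (S.presheaf.stalk c) := inferInstance
  haveI : IsDomain (S.presheaf.stalk c) := (hS c).1
  obtain ⟨N, hN⟩ : ∃ N, (σ.stalkMap c).hom b ∉ IsLocalRing.maximalIdeal (S.presheaf.stalk c) ^ N := by
    by_contra h
    push Not at h
    exact hb (Ideal.mem_bot.1 ((Ideal.iInf_pow_eq_bot_of_isLocalRing _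
      (IsLocalRing.maximalIdeal.isMaximal (S.presheaf.stalk c)).ne_top).le (Ideal.mem_iInf.2 h)))
  obtain ⟨X'', π, hst, hgood, hpres⟩ := descent hfin hV hdim hS hdS c t N g hg σ (hσ ▸ hgenS) (hσ ▸ hfy')
    (trans_congr hσ.symm htr) a b hab hN
  exact ⟨X'', π, hst, hσ ▸ hgood, hpres⟩

/-- **Normalized blowing ups dominate a normal modification.** -/
theorem dominate_normal (hn : Pi1.IsNormalScheme X) (hfin : FinNorm X) (hdim : topologicalKrullDim X ≤ 2)
    {Y : Scheme.{u}} [IsIntegral Y] (hYn : Pi1.IsNormalScheme Y) (f : Y ⟶ X) [IsProper f]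
    {V₀ : X.Opens} (hV₀ : (V₀ : Set X).Nonempty) [IsIso (f ∣_ V₀)] :
    ∃ (V : X.Opens) (_ : (V : Set X).Nonempty) (Xn : Scheme.{u}) (g : Xn ⟶ X), IsSt V g ∧ ∃ h : Xn ⟶ Y, h ≫ f = g := by
  classical
  haveI : IsLocallyNoetherian Y := LocallyOfFiniteType.isLocallyNoetherian f
  haveI : CompactSpace Y := QuasiCompact.compactSpace_of_compactSpace f
  haveI : IsNoetherian Y := {}
  haveI : IsIso (f.stalkMap (genericPoint Y)) := ModifLib.isIso_stalkMap_genericPoint f hV₀
  obtain ⟨V, hV, hVfib, hV2⟩ := Groth.Agent.S11555.result f hn (ModifLib.map_genericPoint f hV₀)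
    (ConcreteCategory.bijective_of_isIso (f.stalkMap (genericPoint Y)))
  haveI := hV
  have hgenV : genericPoint X ∈ V := by
    by_contra h
    have := hV2 _ h
    rw [ringKrullDim_eq_zero_of_field X.functionField] at this
    exact absurd this (by norm_num)
  have hVne : (V : Set X).Nonempty := ⟨_, hgenV⟩
  have hcl : ∀ s : X, s ∉ V → IsClosed ({s} : Set X) := fun s hs => PtBlowLib.isClosed_of_two_le hdim s (hV2 s hs)
  have hdimY : topologicalKrullDim Y ≤ 2 := ModifLib.dim_source_le f hVne 2 fun s => (DimIneqLib.stalk_dim_le_dim s).trans hdim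
  let T : Set Y := {y | f y ∉ V ∧ ringKrullDim (Y.presheaf.stalk y) ≤ 1 ∧ ¬ IsClosed ({y} : Set Y)}
  have hmax : ∀ y ∈ T, ∀ y' : Y, f y' ∉ V → y' ⤳ y → y' = y := fun y hy y' hy' hsp => by
    by_contra hne
    have hlt : y < y' := lt_of_le_not_ge hsp fun h => hne (hsp.antisymm h).eq
    have h1 := Order.coheight_add_one_le hlt
    have h2 : Order.coheight y ≤ 1 := by
      have := hy.2.1
      rw [ringKrullDim_stalk_eq_coheight] at this
      exact WithBot.coe_le_coe.1 this
    have h3 : Order.coheight y' = 0 := nonpos_iff_eq_zero.1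
      ((ENat.add_le_add_iff_right ENat.one_ne_top).1 ((h1.trans h2).trans_eq (zero_add 1).symm))
    have h4 : y' = genericPoint Y := ((show y' ⤳ genericPoint Y from
      (Order.coheight_eq_zero.1 h3) (genericPoint_specializes y')).antisymm (genericPoint_specializes y')).eq
    exact hy' (h4 ▸ ModifLib.genericPoint_mem f hVne)
  have hT : T.Finite := by
    let C : Set Y := f ⁻¹' (V : Set X)ᶜ
    have hC : IsClosed C := V.2.isClosed_compl.preimage f.continuous
    obtain ⟨S, hS, hScl, hSir, hSeq⟩ := NoetherianSpace.exists_finite_set_isClosed_irreducible hC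
    refine (hS.biUnion fun u hu => Set.Subsingleton.finite (s := {z : Y | IsGenericPoint z u}) fun a ha b hb =>
      ha.eq hb).subset fun z hz => ?_
    obtain ⟨u, hu, hzu⟩ : z ∈ ⋃₀ S := hSeq ▸ (show z ∈ C from hz.1)
    obtain ⟨η, hη⟩ := QuasiSober.sober (hSir u hu) (hScl u hu)
    have : η = z := hmax z hz η (show η ∈ C from hSeq.symm ▸ ⟨u, hu, hη.mem⟩) (hη.specializes hzu)
    exact Set.mem_iUnion₂.2 ⟨u, hu, this ▸ hη⟩
  have hSy : ∀ y ∈ T, IsIntegral (Spec (Y.presheaf.stalk y)) ∧ Pi1.IsNormalScheme (Spec (Y.presheaf.stalk y)) ∧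
      (∀ s, ringKrullDim ((Spec (Y.presheaf.stalk y)).presheaf.stalk s) ≤ 1) ∧
      ∀ [IsIntegral (Spec (Y.presheaf.stalk y))], (Y.fromSpecStalk y ≫ f) (genericPoint (Spec (Y.presheaf.stalk y))) ∈ V := fun y hy => by
    haveI := (hYn y).1
    haveI := (hYn y).2
    refine ⟨inferInstanceAs (IsIntegral (Spec (CommRingCat.of (Y.presheaf.stalk y)))),
      ParaFLib.isNormal_spec (Y.presheaf.stalk y), fun s =>
      ((DimIneqLib.stalk_dim_le_dim s).trans_eq (PrimeSpectrum.topologicalKrullDim_eq_ringKrullDim _)).trans hy.2.1, ?_⟩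
    intro _
    have hη : Y.fromSpecStalk y (genericPoint (Spec (Y.presheaf.stalk y))) = genericPoint Y := by
      obtain ⟨P, hP⟩ : genericPoint Y ∈ Set.range (Y.fromSpecStalk y) := by
        rw [Scheme.range_fromSpecStalk]
        exact genericPoint_specializes y
      exact ((genericPoint_specializes _).antisymm
        (hP ▸ (genericPoint_specializes P).map (Y.fromSpecStalk y).continuous)).eq.symm
    show f (Y.fromSpecStalk y _) ∈ V
    rw [hη]
    exact ModifLib.genericPoint_mem f hVne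
  have hall : ∀ F : Finset Y, (F : Set Y) ⊆ T → ∃ (X' : Scheme.{u}) (g : X' ⟶ X), IsSt V g ∧
      ∀ y ∈ F, Good (IsLocalRing.closedPoint (Y.presheaf.stalk y)) (Y.fromSpecStalk y ≫ f) g := by
    intro F
    induction F using Finset.induction with
    | empty => exact fun _ => ⟨X, 𝟙 X, isSt_id hn, by simp⟩
    | insert y F _ ih =>
      intro hF
      rw [Finset.coe_insert, Set.insert_subset_iff] at hF
      obtain ⟨X', g, hg, hgood⟩ := ih hF.2
      obtain ⟨X'', π, hst, hy', hpres⟩ := exists_good hn hfin hVne hdim hYn f y hF.1.2.1 hF.1.1 hF.1.2.2 (hcl _ hF.1.1) g hg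
      refine ⟨X'', π ≫ g, hst, fun z hz => ?_⟩
      rcases Finset.mem_insert.1 hz with rfl | hz'
      · exact hy'
      · obtain ⟨h1, h2, h3, h4⟩ := hSy z (hF.2 hz')
        haveI := h1
        haveI : IsLocallyNoetherian (Spec (Y.presheaf.stalk z)) :=
          inferInstanceAs (IsLocallyNoetherian (Spec (CommRingCat.of (Y.presheaf.stalk z))))
        exact hpres h2 h3 _ _ h4 (hgood z hz')
  obtain ⟨Xn, g, hg, hgood⟩ := hall hT.toFinset (by simp)
  refine ⟨V, hVne, Xn, g, hg, ?_⟩
  haveI := hg.integral; haveI := hg.proper; haveI := hg.iso; haveI := hg.noetherian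
  -- the graph
  haveI : Nonempty V := hVne.to_subtype
  haveI := ModifLib.isIso_pullback_restrict g f (D := V)
  obtain ⟨W, c, hc, hWi, hWiso⟩ := ModifLib.exists_integral_closure (pullback.snd g f ≫ f) V
  haveI := hc; haveI := hWi; haveI := hWiso
  let p : W ⟶ Xn := c ≫ pullback.fst g f
  let pY : W ⟶ Y := c ≫ pullback.snd g f
  haveI : IsProper p := inferInstanceAs (IsProper (c ≫ pullback.fst g f))
  have hpg : p ≫ g = pY ≫ f := by simp only [p, pY, Category.assoc, pullback.condition]
  haveI : IsIso ((p ≫ g) ∣_ V) := by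
    rw [hpg]
    exact (Category.assoc c (pullback.snd g f) f).symm ▸ hWiso
  haveI : IsIso (p ∣_ g ⁻¹ᵁ V) := by
    have : IsIso ((p ∣_ g ⁻¹ᵁ V) ≫ (g ∣_ V)) := by rw [← morphismRestrict_comp]; infer_instance
    exact IsIso.of_isIso_comp_right _ (g ∣_ V)
  have hVn : ((g ⁻¹ᵁ V : Xn.Opens) : Set Xn).Nonempty := ⟨_, ModifLib.genericPoint_mem g hVne⟩
  haveI : IsIso (p.stalkMap (genericPoint W)) := ModifLib.isIso_stalkMap_genericPoint p hVn
  obtain ⟨V', hV', hfib', hV'2⟩ := Groth.Agent.S11555.result p hg.normal (ModifLib.map_genericPoint p hVn)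
    (ConcreteCategory.bijective_of_isIso (p.stalkMap (genericPoint W)))
  suffices htop : V' = ⊤ by
    subst htop
    haveI : IsIso p := isIso_of_restrict_top p hV'
    refine ⟨inv p ≫ pY, ?_⟩
    rw [Category.assoc, ← hpg, IsIso.inv_hom_id_assoc]
  refine top_le_iff.1 fun x _ => ?_
  by_contra hxV'
  haveI : Surjective p := by
    haveI : IsDominant p := ⟨by
      rw [DenseRange, dense_iff_closure_eq]
      refine Set.eq_univ_of_univ_subset ?_
      rw [← (genericPoint_spec Xn).def]
      exact closure_mono (Set.singleton_subset_iff.2 ⟨_, ModifLib.map_genericPoint p hVn⟩)⟩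
    exact ⟨fun z => (genericPoint_specializes z).mem_closed p.isClosedMap.isClosed_range
      ⟨_, ModifLib.map_genericPoint p hVn⟩⟩
  obtain ⟨w₀, hw₀⟩ := p.surjective x
  subst hw₀
  have hx2 := hV'2 _ hxV'
  have hxc : IsClosed ({p w₀} : Set Xn) := PtBlowLib.isClosed_of_two_le (hg.dim_le hVne hdim) _ hx2
  have hno := hfib' _ hxV'
  have hgx : g (p w₀) ∉ V := fun hx => hno (p.asFiber w₀) <| by
    have hsub : Subsingleton (p.fiber (p w₀)) := ⟨fun a b => (p.fiberι _).isEmbedding.injective <| by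
      have ha : p (p.fiberι _ a) = p w₀ := (p.range_fiberι _).le ⟨a, rfl⟩
      have hb : p (p.fiberι _ b) = p w₀ := (p.range_fiberι _).le ⟨b, rfl⟩
      have e : ∀ a' : (p ⁻¹ᵁ g ⁻¹ᵁ V : W.Opens), ((p ∣_ g ⁻¹ᵁ V) a').1 = p a'.1 := morphismRestrict_base_coe p _
      have := (p ∣_ g ⁻¹ᵁ V).isOpenEmbedding.injective (a₁ := ⟨p.fiberι _ a, show g (p (p.fiberι _ a)) ∈ V by rw [ha]; exact hx⟩)
        (a₂ := ⟨p.fiberι _ b, show g (p (p.fiberι _ b)) ∈ V by rw [hb]; exact hx⟩)
        (Subtype.ext ((e ⟨p.fiberι _ a, _⟩).trans ((ha.trans hb.symm).trans (e ⟨p.fiberι _ b, _⟩).symm)))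
      exact congrArg Subtype.val this⟩
    exact isOpen_discrete _
  haveI : IsNoetherian (p.fiber (p w₀)) := by
    haveI : LocallyOfFiniteType (p.fiberToSpecResidueField (p w₀)) :=
      MorphismProperty.pullback_snd _ _ (inferInstance : LocallyOfFiniteType p)
    haveI := LocallyOfFiniteType.isLocallyNoetherian (p.fiberToSpecResidueField (p w₀))
    haveI : CompactSpace (p.fiber (p w₀)) := QuasiCompact.compactSpace_of_compactSpace (p.fiberToSpecResidueField (p w₀))
    exact ⟨⟩
  obtain ⟨z', x', -, hzx, hne⟩ := RelMinSmLib.exists_specializes_of_not_isOpen (hno (p.asFiber w₀))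
  let z := p.fiberι _ z'
  let w := p.fiberι _ x'
  have hzw : z ⤳ w := hzx.map (p.fiberι _).continuous
  have hzne : z ≠ w := fun h => hne ((p.fiberι _).isEmbedding.injective h)
  have hz : p z = p w₀ := (p.range_fiberι _).le ⟨z', rfl⟩
  have hw : p w = p w₀ := (p.range_fiberι _).le ⟨x', rfl⟩
  -- the map to `Y` is finite on the fibre
  have hyne : pY z ≠ pY w := by
    intro heq
    let x := p w₀
    haveI : IsClosedImmersion (Xn.fromSpecResidueField x) := isClosed_singleton_iff_isClosedImmersion.1 hxc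
    haveI : IsClosedImmersion (X.fromSpecResidueField (g x)) := isClosed_singleton_iff_isClosedImmersion.1 (hcl _ hgx)
    have hfinres : (g.residueFieldMap x).hom.Finite := by
      refine (Groth.Agent.S9332.result g x).1 ?_
      have h : ({g.asFiber x} : Set (g.fiber (g x))) = g.fiberι (g x) ⁻¹' {x} := by
        rw [← Set.image_singleton (f := g.fiberι (g x)) (a := g.asFiber x) |>.trans
          (congrArg (fun v => ({v} : Set Xn)) (g.fiberι_asFiber x)),
          (g.fiberι (g x)).isEmbedding.injective.preimage_image]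
      rw [h]
      exact hxc.preimage (g.fiberι (g x)).continuous
    haveI : IsFinite (Spec.map (g.residueFieldMap x)) := (IsFinite.SpecMap_iff _).2 hfinres
    haveI : IsFinite (Xn.fromSpecResidueField x ≫ g) := by
      rw [← Scheme.Hom.SpecMap_residueFieldMap_fromSpecResidueField]
      infer_instance
    let h1 := IsPullback.of_hasPullback (pullback.fst g f) (Xn.fromSpecResidueField x)
    have h2 := h1.flip.paste_vert (IsPullback.of_hasPullback g f)
    let r := pullback.fst (pullback.fst g f) (Xn.fromSpecResidueField x) ≫ pullback.snd g f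
    haveI : IsFinite r := MorphismProperty.of_isPullback h2 (inferInstanceAs (IsFinite (Xn.fromSpecResidueField x ≫ g)))
    have hlift : ∀ v : W, p v = x → ∃ v' : ↑(pullback (pullback.fst g f) (Xn.fromSpecResidueField x)),
        pullback.fst (pullback.fst g f) (Xn.fromSpecResidueField x) v' = c v := fun v hv => by
      obtain ⟨v', hv', -⟩ := Scheme.Pullback.exists_preimage_pullback (f := pullback.fst g f)
        (g := Xn.fromSpecResidueField x) (c v) (IsLocalRing.closedPoint _)
        (hv.trans (Scheme.fromSpecResidueField_apply x _).symm)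
      exact ⟨v', hv'⟩
    obtain ⟨a, ha⟩ := hlift z hz
    obtain ⟨b, hb⟩ := hlift w hw
    have hab : a ⤳ b := by
      rw [← (pullback.fst (pullback.fst g f) (Xn.fromSpecResidueField x)).isEmbedding.isInducing.specializes_iff, ha, hb]
      exact hzw.map c.continuous
    have hra : r a = pY z := congrArg (pullback.snd g f).base ha
    have hrb : r b = pY w := congrArg (pullback.snd g f).base hb
    have hd := r.isDiscrete_preimage_singleton (pY w)
    haveI := hd.to_subtype
    have hab' : (⟨a, hra.trans heq⟩ : r ⁻¹' {pY w}) ⤳ ⟨b, hrb⟩ := (subtype_specializes_iff _ _).2 hab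
    have hab2 : a = b := congrArg Subtype.val hab'.eq
    exact hzne (c.isEmbedding.injective (ha.symm.trans ((congrArg _ hab2).trans hb)))
  have hyV : f (pY z) ∉ V := by
    rw [← Scheme.Hom.comp_apply, ← hpg, Scheme.Hom.comp_apply, hz]
    exact hgx
  have hync : ¬ IsClosed ({pY z} : Set Y) := fun h =>
    hyne (Set.mem_singleton_iff.1 ((hzw.map pY.continuous).mem_closed h rfl)).symm
  have hy1 : ringKrullDim (Y.presheaf.stalk (pY z)) ≤ 1 := by
    rw [ringKrullDim_stalk_eq_coheight]
    refine WithBot.coe_le_coe.2 (not_lt.1 fun h => hync (PtBlowLib.isClosed_of_two_le hdimY _ ?_))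
    rw [ringKrullDim_stalk_eq_coheight]
    exact WithBot.coe_le_coe.2 ((one_add_one_eq_two (R := ℕ∞)).symm.le.trans (Order.add_one_le_of_lt h))
  obtain ⟨σ, hσ, hdσ⟩ := hgood (pY z) (hT.mem_toFinset.2 ⟨hyV, hy1, hync⟩)
  obtain ⟨h1, h2, h3, h4⟩ := hSy (pY z) ⟨hyV, hy1, hync⟩
  haveI := h1
  let τ := Spec.map (pY.stalkMap z)
  haveI : IsIntegral (Spec (W.presheaf.stalk z)) := inferInstanceAs (IsIntegral (Spec (CommRingCat.of (W.presheaf.stalk z))))
  have e : τ ≫ σ = W.fromSpecStalk z ≫ p := by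
    refine lift_unique g V _ _ ?_ ?_
    · rw [Category.assoc, hσ, Category.assoc, hpg, Scheme.SpecMap_stalkMap_fromSpecStalk_assoc]
    · rw [Category.assoc, hσ, Scheme.SpecMap_stalkMap_fromSpecStalk_assoc, ← hpg]
      have hη : W.fromSpecStalk z (genericPoint (Spec (W.presheaf.stalk z))) = genericPoint W := by
        obtain ⟨P, hP⟩ : genericPoint W ∈ Set.range (W.fromSpecStalk z) := by
          rw [Scheme.range_fromSpecStalk]
          exact genericPoint_specializes z
        exact ((genericPoint_specializes _).antisymm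
          (hP ▸ (genericPoint_specializes P).map (W.fromSpecStalk z).continuous)).eq.symm
      show (p ≫ g) (W.fromSpecStalk z _) ∈ V
      rw [hη]
      exact ModifLib.genericPoint_mem (p ≫ g) hVne
  have e' : σ (IsLocalRing.closedPoint (Y.presheaf.stalk (pY z))) = p w₀ := by
    rw [← hz]
    have := congrArg (fun m : Spec (W.presheaf.stalk z) ⟶ Xn => m (IsLocalRing.closedPoint (W.presheaf.stalk z))) e
    simp only [Scheme.Hom.comp_apply, Scheme.fromSpecStalk_closedPoint] at this
    refine Eq.trans ?_ this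
    refine congrArg σ.base ?_
    exact (IsLocalRing.comap_closedPoint (pY.stalkMap z).hom).symm
  rw [e'] at hdσ
  exact absurd (hx2.trans hdσ) (by norm_num)

/-- **Normalized blowing ups dominate a modification.** -/
theorem dominate (hn : Pi1.IsNormalScheme X) (hfin : FinNorm X) (hdim : topologicalKrullDim X ≤ 2)
    {Y : Scheme.{u}} [IsIntegral Y] (f : Y ⟶ X) [IsProper f]
    {V₀ : X.Opens} (hV₀ : (V₀ : Set X).Nonempty) [IsIso (f ∣_ V₀)] :
    ∃ (V : X.Opens) (_ : (V : Set X).Nonempty) (Xn : Scheme.{u}) (g : Xn ⟶ X), IsSt V g ∧ ∃ h : Xn ⟶ Y, h ≫ f = g := by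
  haveI : IsLocallyNoetherian Y := LocallyOfFiniteType.isLocallyNoetherian f
  haveI : QuasiCompact (Y.fromSpecStalk (genericPoint Y)) := inferInstance
  haveI : QuasiSeparated (Y.fromSpecStalk (genericPoint Y)) := inferInstance
  haveI : IsFinite (Curv2.normalizationι Y) := hfin Y f inferInstance ⟨V₀, hV₀, inferInstance⟩
  have hne : ((f ⁻¹ᵁ V₀ : Y.Opens) : Set Y).Nonempty := ⟨_, ModifLib.genericPoint_mem f hV₀⟩
  haveI : IsIso (Curv2.normalizationι Y ∣_ f ⁻¹ᵁ V₀) :=
    isIso_normalizationι_of_normal Y _ hne (isNormalScheme_of_isIso (f ∣_ V₀) (isNormalScheme_open hn V₀))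
  haveI : IsIso ((Curv2.normalizationι Y ≫ f) ∣_ V₀) := by rw [morphismRestrict_comp]; infer_instance
  obtain ⟨V, hV, Xn, g, hg, h, hh⟩ := dominate_normal hn hfin hdim (LocFFLib.normalization_isNormal Y)
    (Curv2.normalizationι Y ≫ f) hV₀
  exact ⟨V, hV, Xn, g, hg, h ≫ Curv2.normalizationι Y, by rw [Category.assoc, hh]⟩

end NormBlowLib
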