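import Mathlib
import Groth.Agent.AmpleDevLib.Components

/-! The closure of the graph of a rational map. -/

set_option autoImplicit false
set_option linter.style.haveILetI false
universe u

open CategoryTheory CategoryTheory.Limits AlgebraicGeometry TopologicalSpace

namespace NormBlowLib

theorem exists_graph {S X Y : Scheme.{u}} [IsIntegral X] (p : X ⟶ S) (q : Y ⟶ S) [IsSeparated q] (U : X.Opens)
    (hU : Dense (U : Set X)) (f : (U : Scheme.{u}) ⟶ Y) (hf : f ≫ q = U.ι ≫ p) :
    ∃ (Γ : Scheme.{u}) (c : Γ ⟶ pullback p q), IsClosedImmersion c ∧ IsIntegral Γ ∧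
      IsIso ((c ≫ pullback.fst p q) ∣_ U) ∧
      ∃ _ : True, ∀ {T : Scheme.{u}} (t : T ⟶ X) (h : T ⟶ Γ), h ≫ c ≫ pullback.fst p q = t →
        (t ⁻¹ᵁ U).ι ≫ h ≫ c ≫ pullback.snd p q = (t ∣_ U) ≫ f := by
  let σ : (U : Scheme.{u}) ⟶ pullback p q := pullback.lift U.ι f hf.symm
  let π := pullback.fst p q
  haveI : Nonempty U := hU.nonempty.to_subtype
  haveI : IsIntegral (U : Scheme.{u}) := isIntegral_of_isOpenImmersion U.ι
  have hirr : IsIrreducible (closure (Set.range σ)) := by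
    have := ((irreducibleSpace_def _).1 (inferInstance : IrreducibleSpace (U : Scheme.{u}))).image σ σ.continuous.continuousOn
    rw [Set.top_eq_univ, Set.image_univ] at this
    exact this.closure
  let Z : Closeds ↑(pullback p q) := ⟨closure (Set.range σ), isClosed_closure⟩
  let c := (Scheme.IdealSheafData.vanishingIdeal Z).subschemeι
  haveI hΓ := AmpleDevLib.isIntegral_vanishingIdeal Z hirr
  -- the section over `U`
  have hσU : Set.range σ ⊆ Set.range (π ⁻¹ᵁ U).ι := by
    rw [Scheme.Opens.range_ι]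
    rintro _ ⟨u, rfl⟩
    show π (σ u) ∈ U
    rw [← Scheme.Hom.comp_apply, pullback.lift_fst]
    exact u.2
  let σU := IsOpenImmersion.lift (π ⁻¹ᵁ U).ι σ hσU
  have hσπ : σU ≫ (π ∣_ U) = 𝟙 _ := by
    rw [← cancel_mono U.ι, Category.assoc, morphismRestrict_ι, IsOpenImmersion.lift_fac_assoc, pullback.lift_fst,
      Category.id_comp]
  haveI : IsSeparated (π ∣_ U) :=
    MorphismProperty.of_isPullback (isPullback_morphismRestrict π U).flip (inferInstanceAs (IsSeparated π))
  haveI : IsClosedImmersion σU := by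
    haveI : IsClosedImmersion (σU ≫ (π ∣_ U)) := by rw [hσπ]; infer_instance
    exact IsClosedImmersion.of_comp σU (π ∣_ U)
  have hker : Scheme.IdealSheafData.vanishingIdeal Z ≤ σ.ker := by
    exact AmpleDevLib.vanishingIdeal_le_ker_of_range σ Z subset_closure
  let σc : (U : Scheme.{u}) ⟶ (Scheme.IdealSheafData.vanishingIdeal Z).subscheme :=
    IsClosedImmersion.lift c σ (by rw [Scheme.IdealSheafData.ker_subschemeι]; exact hker)
  have hσc : σc ≫ c = σ := IsClosedImmersion.lift_fac _ _ _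
  let W := c ⁻¹ᵁ (π ⁻¹ᵁ U)
  have hσW : Set.range σc ⊆ Set.range W.ι := by
    rw [Scheme.Opens.range_ι]
    rintro _ ⟨u, rfl⟩
    show π (c (σc u)) ∈ U
    rw [← Scheme.Hom.comp_apply σc c, hσc, ← Scheme.Hom.comp_apply, pullback.lift_fst]
    exact u.2
  let σW := IsOpenImmersion.lift W.ι σc hσW
  have hfac : σW ≫ (c ∣_ π ⁻¹ᵁ U) = σU := by
    rw [← cancel_mono (π ⁻¹ᵁ U).ι, Category.assoc, morphismRestrict_ι, IsOpenImmersion.lift_fac_assoc, hσc,
      IsOpenImmersion.lift_fac]
  haveI : IsClosedImmersion σW := by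
    haveI : IsClosedImmersion (σW ≫ (c ∣_ π ⁻¹ᵁ U)) := by rw [hfac]; infer_instance
    exact IsClosedImmersion.of_comp σW (c ∣_ π ⁻¹ᵁ U)
  haveI : Surjective σW := ⟨fun w => by
    have h1 : c w.1 ∈ closure (Set.range σ) := by
      have : c w.1 ∈ Set.range c := ⟨_, rfl⟩
      rw [Scheme.IdealSheafData.range_subschemeι, Scheme.IdealSheafData.coe_support_vanishingIdeal] at this
      exact this
    have hcl : IsClosed (Set.range σU) := σU.isClosedEmbedding.isClosed_range
    have h2 : (⟨c w.1, w.2⟩ : π ⁻¹ᵁ U) ∈ Set.range σU := by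
      refine hcl.closure_eq.le (?_ : (⟨c w.1, w.2⟩ : π ⁻¹ᵁ U) ∈ closure (Set.range σU))
      refine (closure_subtype (s := Set.range σU)).2 ?_
      convert h1 using 2
      refine (Set.range_comp _ _).symm.trans ?_
      exact congrArg (fun m : (U : Scheme.{u}) ⟶ pullback p q => Set.range m) (IsOpenImmersion.lift_fac _ _ hσU)
    obtain ⟨u, hu⟩ := h2
    refine ⟨u, Subtype.ext (c.isClosedEmbedding.injective ?_)⟩
    rw [← hfac, Scheme.Hom.comp_apply] at hu
    exact ((morphismRestrict_base_coe c _ _).symm.trans (congrArg Subtype.val hu))⟩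
  haveI : IsReduced (W : Scheme.{u}) := isReduced_of_isOpenImmersion W.ι
  haveI : IsIso σW := isIso_of_isClosedImmersion_of_surjective σW
  have hid : σW ≫ ((c ≫ π) ∣_ U) = 𝟙 _ := by
    rw [morphismRestrict_comp, ← Category.assoc, hfac, hσπ]
  haveI : IsIso ((c ≫ π) ∣_ U) := by
    haveI : IsIso (σW ≫ ((c ≫ π) ∣_ U)) := by rw [hid]; infer_instance
    exact IsIso.of_isIso_comp_left σW _
  refine ⟨_, c, inferInstance, hΓ, inferInstance, trivial, fun {T} t h hh => ?_⟩
  subst hh
  have e : W.ι ≫ c ≫ pullback.snd p q = ((c ≫ π) ∣_ U) ≫ f := by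
    refine (cancel_epi σW).1 ?_
    rw [IsOpenImmersion.lift_fac_assoc, reassoc_of% hσc, pullback.lift_snd]
    exact ((Category.id_comp f).symm.trans (congrArg (fun k => k ≫ f) hid.symm)).trans (Category.assoc _ _ _)
  show ((h ≫ c ≫ π) ⁻¹ᵁ U).ι ≫ h ≫ c ≫ pullback.snd p q = _
  rw [morphismRestrict_comp h (c ≫ π)]
  refine Eq.trans ?_ (Category.assoc _ _ _).symm
  refine Eq.trans ?_ (congrArg (fun k => (h ∣_ W) ≫ k) e)
  show (h ⁻¹ᵁ W).ι ≫ h ≫ c ≫ pullback.snd p q = _
  exact (morphismRestrict_ι_assoc h W (c ≫ pullback.snd p q)).symm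

end NormBlowLib
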