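import Mathlib
import Groth.Agent.NormBlowLib.Dominate
import Groth.Agent.NormBlowLib.FinNorm

/-! Dominating by normalized blowing ups. -/

set_option autoImplicit false
set_option linter.style.haveILetI false
set_option backward.isDefEq.respectTransparency false
set_option backward.isDefEq.respectTransparency.types false
universe u

open CategoryTheory CategoryTheory.Limits AlgebraicGeometry TopologicalSpace

namespace NormBlowLib

theorem exists_dominate (X : Scheme.{u}) [IsIntegral X] [IsNoetherian X]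
    [QuasiCompact (X.fromSpecStalk (genericPoint X))] [QuasiSeparated (X.fromSpecStalk (genericPoint X))]
    (hfin : FinNorm X) (hdim : topologicalKrullDim X ≤ 2) {Y : Scheme.{u}} [IsIntegral Y] (f : Y ⟶ X) [IsProper f]
    {U : X.Opens} (hU : (U : Set X).Nonempty) [IsIso (f ∣_ U)] :
    ∃ (Xn : Scheme.{u}) (g : Xn ⟶ Curv2.normalization X), Resolve.IsNormPtBlowupSeq g ∧ IsProper g ∧
      IsFinite (Curv2.normalizationι X) ∧ IsIntegral Xn ∧ Pi1.IsNormalScheme Xn ∧
      (∃ U' : X.Opens, (U' : Set X).Nonempty ∧ IsIso ((g ≫ Curv2.normalizationι X) ∣_ U')) ∧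
      ∃ h : Xn ⟶ Y, h ≫ f = g ≫ Curv2.normalizationι X := by
  haveI hνf : IsFinite (Curv2.normalizationι X) := hfin X (𝟙 X) inferInstance
    ⟨U, hU, inferInstance⟩
  obtain ⟨U₁, hU₁, hi₁⟩ := exists_normalization_open X
  haveI := hi₁
  haveI : IsLocallyNoetherian (Curv2.normalization X) := LocallyOfFiniteType.isLocallyNoetherian (Curv2.normalizationι X)
  haveI : CompactSpace (Curv2.normalization X) := QuasiCompact.compactSpace_of_compactSpace (Curv2.normalizationι X)
  haveI : IsNoetherian (Curv2.normalization X) := {}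
  have hfinν : FinNorm (Curv2.normalization X) := hfin.comp (Curv2.normalizationι X) ⟨U₁, hU₁, hi₁⟩
  have hdimν : topologicalKrullDim (Curv2.normalization X) ≤ 2 :=
    ModifLib.dim_source_le (Curv2.normalizationι X) hU₁ 2 fun s => (DimIneqLib.stalk_dim_le_dim s).trans hdim
  haveI : IsLocallyNoetherian Y := LocallyOfFiniteType.isLocallyNoetherian f
  haveI : QuasiCompact (Y.fromSpecStalk (genericPoint Y)) := inferInstance
  haveI : QuasiSeparated (Y.fromSpecStalk (genericPoint Y)) := inferInstance
  haveI : IsFinite (Curv2.normalizationι Y) := hfin Y f inferInstance ⟨U, hU, inferInstance⟩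
  obtain ⟨U₂, hU₂, hi₂⟩ := exists_normalization_open Y
  haveI := hi₂
  let nY := Curv2.normalizationι Y ≫ f
  haveI : IsProper nY := inferInstanceAs (IsProper (Curv2.normalizationι Y ≫ f))
  have hgenY : genericPoint Y ∈ U₂ := ((genericPoint_spec Y).mem_open_set_iff U₂.2).2 (by simpa using hU₂)
  have hnYgen : nY (genericPoint (Curv2.normalization Y)) = genericPoint X := by
    show f (Curv2.normalizationι Y _) = _
    rw [(LocFFLib.normalization_bir Y).1, ModifLib.map_genericPoint f hU]
  obtain ⟨k, hk, -⟩ := Groth.Agent.S9690.result X nY (LocFFLib.normalization_isNormal Y) fun z hz => by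
    have hz' : z = genericPoint (Curv2.normalization Y) := by
      have e : closure ({z} : Set (Curv2.normalization Y)) = Set.univ := by
        rw [irreducibleComponents_eq_singleton] at hz; exact hz
      exact IsGenericPoint.eq e (genericPoint_spec _)
    rw [hz']
    exact hnYgen
  haveI : IsProper k := by
    haveI : IsProper (k ≫ Curv2.normalizationι X) := hk.symm ▸ ‹IsProper nY›
    exact IsProper.of_comp k (Curv2.normalizationι X)
  -- a common open
  obtain ⟨U₃, hU₃, hi₃⟩ : ∃ U₃ : X.Opens, (U₃ : Set X).Nonempty ∧ IsIso (nY ∣_ U₃) := by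
    have hZ : IsClosed (f '' (U₂ : Set Y)ᶜ) := f.isClosedMap _ U₂.2.isClosed_compl
    refine ⟨U ⊓ ⟨_, hZ.isOpen_compl⟩, ⟨genericPoint X, ((genericPoint_spec X).mem_open_set_iff U.2).2 (by simpa using hU), ?_⟩, ?_⟩
    · rintro ⟨y, hy, hfy⟩
      have hyU : y ∈ f ⁻¹ᵁ U := show f y ∈ U by
        rw [hfy]; exact ((genericPoint_spec X).mem_open_set_iff U.2).2 (by simpa using hU)
      have : (⟨y, hyU⟩ : f ⁻¹ᵁ U) = ⟨genericPoint Y, ModifLib.genericPoint_mem f hU⟩ :=
        (f ∣_ U).isOpenEmbedding.injective (Subtype.ext ((morphismRestrict_base_coe f U ⟨y, hyU⟩).trans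
          ((hfy.trans (ModifLib.map_genericPoint f hU).symm).trans
            (morphismRestrict_base_coe f U ⟨genericPoint Y, ModifLib.genericPoint_mem f hU⟩).symm)))
      exact hy ((show y = genericPoint Y from congrArg Subtype.val this) ▸ hgenY)
    · let O : X.Opens := U ⊓ ⟨_, hZ.isOpen_compl⟩
      haveI : IsIso (f ∣_ O) := ModifLib.isIso_restrict_of_le f inf_le_left
      haveI : IsIso (Curv2.normalizationι Y ∣_ f ⁻¹ᵁ O) := ModifLib.isIso_restrict_of_le _ fun y hy => by
        by_contra h
        exact hy.2 ⟨y, h, rfl⟩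
      show IsIso ((Curv2.normalizationι Y ≫ f) ∣_ O)
      rw [morphismRestrict_comp]
      infer_instance
  haveI := hi₃
  let D : X.Opens := U₃ ⊓ U₁
  have hD : (D : Set X).Nonempty := ⟨genericPoint X, ((genericPoint_spec X).mem_open_set_iff U₃.2).2 (by simpa using hU₃),
    ((genericPoint_spec X).mem_open_set_iff U₁.2).2 (by simpa using hU₁)⟩
  haveI : IsIso (nY ∣_ D) := ModifLib.isIso_restrict_of_le nY inf_le_left
  haveI : IsIso (Curv2.normalizationι X ∣_ D) := ModifLib.isIso_restrict_of_le _ inf_le_right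
  haveI : IsIso (k ∣_ Curv2.normalizationι X ⁻¹ᵁ D) := by
    have : IsIso ((k ∣_ Curv2.normalizationι X ⁻¹ᵁ D) ≫ (Curv2.normalizationι X ∣_ D)) := by
      rw [← morphismRestrict_comp]
      have key : ∀ m : Curv2.normalization Y ⟶ X, m = nY → IsIso (m ∣_ D) := fun m hm => by subst hm; infer_instance
      exact key _ hk
    exact IsIso.of_isIso_comp_right _ (Curv2.normalizationι X ∣_ D)
  have hDn : ((Curv2.normalizationι X ⁻¹ᵁ D : (Curv2.normalization X).Opens) : Set (Curv2.normalization X)).Nonempty :=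
    ⟨_, ModifLib.genericPoint_mem (Curv2.normalizationι X) hD⟩
  obtain ⟨V, hV, Xn, g, hg, h, hh⟩ := dominate (LocFFLib.normalization_isNormal X) hfinν hdimν k hDn
  haveI := hg.proper; haveI := hg.integral; haveI := hg.iso
  refine ⟨Xn, g, hg.contractionSeq, inferInstance, hνf, inferInstance, hg.normal, ?_, h ≫ Curv2.normalizationι Y, ?_⟩
  · -- an open of the base below `V`
    have hZ : IsClosed (Curv2.normalizationι X '' (V : Set (Curv2.normalization X))ᶜ) :=
      (Curv2.normalizationι X).isClosedMap _ V.2.isClosed_compl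
    refine ⟨U₁ ⊓ ⟨_, hZ.isOpen_compl⟩, ⟨genericPoint X, ((genericPoint_spec X).mem_open_set_iff U₁.2).2 (by simpa using hU₁), ?_⟩, ?_⟩
    · rintro ⟨v, hv, hνv⟩
      have : v = genericPoint (Curv2.normalization X) :=
        PurBirLib.eq_generic_of_map_generic _ (LocFFLib.normalization_bir X) hνv
      exact hv (this ▸ ((genericPoint_spec (Curv2.normalization X)).mem_open_set_iff V.2).2 (by simpa using hV))
    · let O : X.Opens := U₁ ⊓ ⟨_, hZ.isOpen_compl⟩
      haveI : IsIso (Curv2.normalizationι X ∣_ O) := ModifLib.isIso_restrict_of_le _ inf_le_left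
      haveI : IsIso (g ∣_ Curv2.normalizationι X ⁻¹ᵁ O) := ModifLib.isIso_restrict_of_le g (U := V) fun v hv => by
        by_contra h'
        exact hv.2 ⟨v, h', rfl⟩
      show IsIso ((g ≫ Curv2.normalizationι X) ∣_ O)
      rw [morphismRestrict_comp]
      infer_instance
  · rw [Category.assoc]
    show h ≫ nY = _
    rw [← hk, ← Category.assoc, hh]

end NormBlowLib
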